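import Mathlib
import Cfsg.Agent.Lib.Helper67.LSF.Defs

/-!
# Project LSF (S5286): package [CONVEX]

The set of free parts of the elements of `GG F` is convex in the Cayley tree of `FreeGroup (X F)`.
-/

set_option autoImplicit false

namespace Cfsg.Agent.Lib.Helper16.LSF

open Cfsg Cfsg.Agent.Lib.Helper67.LSF

universe u

theorem isReduced_map_perm {X : Type u} (π : Equiv.Perm X) {L : List (X × Bool)}
    (h : FreeGroup.IsReduced L) :
    FreeGroup.IsReduced (L.map fun ℓ => (π ℓ.1, ℓ.2)) := by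
  unfold FreeGroup.IsReduced at h ⊢
  rw [List.isChain_map]
  exact h.imp (fun a b hab e => hab (π.injective e))

variable {Ω : Type u} [Group Ω] {S : Subgroup Ω}

theorem autF_mk (F : FusionSystem S) (q : Equiv.Perm S) (L : List (X F × Bool)) :
    autF F q (FreeGroup.mk L) = FreeGroup.mk (L.map fun ℓ => (xperm F q ℓ.1, ℓ.2)) :=
  autX_mk (xperm F) q L

theorem autF_autF_inv (F : FusionSystem S) (q : Equiv.Perm S) (m : FreeGroup (X F)) :
    autF F q (autF F q⁻¹ m) = m := by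
  rw [← MulAut.mul_apply, ← map_mul, mul_inv_cancel, map_one, MulAut.one_apply]

theorem inv_left_inr_inl (F : FusionSystem S) (c : Equiv.Perm S) (n : FreeGroup (X F)) :
    ((SemidirectProduct.inr c * SemidirectProduct.inl n : Ghat F)⁻¹).left = n⁻¹ := by
  rw [mul_inv_rev, ← map_inv, ← map_inv, SemidirectProduct.mul_left, SemidirectProduct.left_inl,
    SemidirectProduct.right_inl, SemidirectProduct.left_inr]
  simp

theorem path_suffix (hInv : PkgInv.{u}) (F : FusionSystem S) :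
    ∀ (L₀ L : List (X F × Bool)) (q : Equiv.Perm S), Path F (L₀ ++ L) q →
      ∃ q₀ : Equiv.Perm S, Path F L q₀ := by
  intro L₀
  induction L₀ with
  | nil => intro L q h; exact ⟨q, h⟩
  | cons ℓ L₀ ih =>
    intro L q h
    obtain ⟨x, b⟩ := ℓ
    cases b with
    | true =>
      obtain ⟨i, s, q₀, hp, -, -⟩ := (hInv S F).2.1 x (L₀ ++ L) q h
      exact ih L q₀ hp
    | false =>
      obtain ⟨i, s, q₀, hp, -, -⟩ := (hInv S F).2.2 x (L₀ ++ L) q h
      exact ih L q₀ hp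

/-- [CONVEX] the set of free parts of the elements of the group is convex in the Cayley tree. -/
theorem pkgConvex (hPath : PkgPath.{u}) (hRed : PkgRed.{u}) (hInv : PkgInv.{u})
    (hMem : PkgMem.{u}) : PkgConvex.{u} := by
  classical
  intro Ω _ S F v L₁ L₂ hred hex hex'
  obtain ⟨g, hg, hgv⟩ := hex
  obtain ⟨g', hg', hgv'⟩ := hex'
  have hh : g⁻¹ * g' ∈ GG F := (GG F).mul_mem ((GG F).inv_mem hg) hg'
  have hk : (g⁻¹ * g')⁻¹ ∈ GG F := (GG F).inv_mem hh
  obtain ⟨Lk, qk, hpk, hkeq⟩ := hPath S F _ hk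
  obtain ⟨L', hp', hred', hmk'⟩ := hRed S F Lk qk hpk
  have hleft : (g⁻¹ * g').left = autF F g.right⁻¹ (FreeGroup.mk (L₁ ++ L₂)) := by
    rw [SemidirectProduct.mul_left, SemidirectProduct.inv_left, SemidirectProduct.inv_right,
      hgv', hgv, ← map_mul, inv_mul_cancel_left]
  have hleft2 : (g⁻¹ * g').left = (FreeGroup.mk Lk)⁻¹ := by
    have e : g⁻¹ * g' = (SemidirectProduct.inr qk * SemidirectProduct.inl (FreeGroup.mk Lk) : Ghat F)⁻¹ := by
      rw [← hkeq, inv_inv]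
    rw [e, inv_left_inr_inl]
  have hinv : (FreeGroup.mk L')⁻¹
      = FreeGroup.mk ((L₁ ++ L₂).map fun ℓ => (xperm F g.right⁻¹ ℓ.1, ℓ.2)) := by
    rw [hmk', ← hleft2, hleft, autF_mk]
  have hM : FreeGroup.IsReduced ((L₁ ++ L₂).map fun ℓ => (xperm F g.right⁻¹ ℓ.1, ℓ.2)) :=
    isReduced_map_perm _ hred
  have e1 : FreeGroup.invRev L' = (L₁ ++ L₂).map fun ℓ => (xperm F g.right⁻¹ ℓ.1, ℓ.2) := by
    have h := congrArg FreeGroup.toWord hinv
    rw [FreeGroup.toWord_inv, FreeGroup.toWord_mk, FreeGroup.toWord_mk, hred'.reduce_eq,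
      hM.reduce_eq] at h
    exact h
  have e2 : L' = FreeGroup.invRev (L₂.map fun ℓ => (xperm F g.right⁻¹ ℓ.1, ℓ.2))
      ++ FreeGroup.invRev (L₁.map fun ℓ => (xperm F g.right⁻¹ ℓ.1, ℓ.2)) := by
    rw [← FreeGroup.invRev_append, ← List.map_append, ← e1, FreeGroup.invRev_invRev]
  rw [e2] at hp'
  obtain ⟨q'', hp''⟩ := path_suffix hInv F _ _ qk hp'
  have hk' := hMem S F _ q'' hp''
  refine ⟨g * (SemidirectProduct.inr q'' * SemidirectProduct.inl (FreeGroup.mk
    (FreeGroup.invRev (L₁.map fun ℓ => (xperm F g.right⁻¹ ℓ.1, ℓ.2)))) : Ghat F)⁻¹,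
    (GG F).mul_mem hg ((GG F).inv_mem hk'), ?_⟩
  rw [SemidirectProduct.mul_left, inv_left_inr_inl, hgv, FreeGroup.inv_mk,
    FreeGroup.invRev_invRev, ← autF_mk, autF_autF_inv]

end Cfsg.Agent.Lib.Helper16.LSF
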